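import Groth.Prelude.Def_SGA4c
import Mathlib.CategoryTheory.Filtered.Basic
import Mathlib.CategoryTheory.Sites.Limits
import Mathlib.CategoryTheory.Sites.EqualizerSheafCondition
import Mathlib.CategoryTheory.Limits.Types.Filtered

/-!
# Filtered colimits of sheaves of sets on a quasi-compact site are computed objectwise
-/

set_option autoImplicit false
set_option linter.unusedSectionVars false

universe u

open CategoryTheory CategoryTheory.Limits Opposite

namespace GrothLib.QCSiteColim25

variable {C : Type u} [SmallCategory C] {J : GrothendieckTopology C}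
variable {I : Type u} [SmallCategory I] [IsFiltered I] (D : I ⥤ Sheaf J (Type u))

/-- A finite family of arrows out of `i` factors a single arrow out of `i`. -/
theorem exists_stage (i : I) {α : Type} [Finite α] (j : α → I) (a : ∀ k, i ⟶ j k) :
    ∃ (m : I) (c : i ⟶ m), ∀ k, ∃ b : j k ⟶ m, a k ≫ b = c := by
  classical
  have := Fintype.ofFinite α
  let O : Finset I := insert i (Finset.univ.image j)
  have hi : i ∈ O := Finset.mem_insert_self _ _
  have hj : ∀ k, j k ∈ O := fun k =>
    Finset.mem_insert_of_mem (Finset.mem_image_of_mem _ (Finset.mem_univ k))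
  obtain ⟨m, T, hT⟩ := IsFiltered.sup_exists O
    (Finset.univ.image fun k => (⟨i, j k, hi, hj k, a k⟩ :
      Σ' (X Y : I) (_ : X ∈ O) (_ : Y ∈ O), X ⟶ Y))
  exact ⟨m, T hi, fun k => ⟨T (hj k),
    hT hi (hj k) (Finset.mem_image_of_mem _ (Finset.mem_univ k))⟩⟩

/-- The colimit presheaf. -/
noncomputable abbrev E : Cocone (D ⋙ sheafToPresheaf J (Type u)) :=
  colimit.cocone (D ⋙ sheafToPresheaf J (Type u))

/-- The map from a stage to the colimit. -/
noncomputable abbrev inc (i : I) (U : C) (a : (D.obj i).obj.obj (op U)) : (E D).pt.obj (op U) :=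
  ((E D).ι.app i).app (op U) a

theorem inc_res (i : I) {U V : C} (f : V ⟶ U) (a : (D.obj i).obj.obj (op U)) :
    (E D).pt.map f.op (inc D i U a) = inc D i V ((D.obj i).obj.map f.op a) :=
  (NatTrans.naturality_apply ((E D).ι.app i) f.op a).symm

theorem inc_map {i j : I} (c : i ⟶ j) (U : C) (a : (D.obj i).obj.obj (op U)) :
    inc D j U ((D.map c).hom.app (op U) a) = inc D i U a :=
  ConcreteCategory.congr_hom (NatTrans.congr_app ((E D).w c) (op U)) a

noncomputable def evIsColimit (U : C) :
    IsColimit (((evaluation Cᵒᵖ (Type u)).obj (op U)).mapCocone (E D)) :=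
  isColimitOfPreserves _ (colimit.isColimit _)

theorem exists_inc {U : C} (s : (E D).pt.obj (op U)) : ∃ i a, inc D i U a = s :=
  Types.jointly_surjective _ (evIsColimit D U) s

theorem eq_at_stage {U : C} {i : I} {a b : (D.obj i).obj.obj (op U)}
    (h : inc D i U a = inc D i U b) :
    ∃ (j : I) (c : i ⟶ j), (D.map c).hom.app (op U) a = (D.map c).hom.app (op U) b := by
  obtain ⟨k, f, g, hfg⟩ := (Types.FilteredColimit.isColimit_eq_iff _ (evIsColimit D U)).1 h
  refine ⟨IsFiltered.coeq f g, f ≫ IsFiltered.coeqHom f g, ?_⟩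
  conv_rhs => rw [IsFiltered.coeq_condition f g]
  rw [Functor.map_comp, Functor.map_comp]
  exact congrArg ((D.map (IsFiltered.coeqHom f g)).hom.app (op U)) hfg

theorem map_map {i j k : I} (c : i ⟶ j) (d : j ⟶ k) (e : i ⟶ k) (h : c ≫ d = e) {U : C}
    {a b : (D.obj i).obj.obj (op U)}
    (hab : (D.map c).hom.app (op U) a = (D.map c).hom.app (op U) b) :
    (D.map e).hom.app (op U) a = (D.map e).hom.app (op U) b := by
  subst h
  rw [Functor.map_comp]
  exact congrArg ((D.map d).hom.app (op U)) hab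

theorem nat_res {i j : I} (c : i ⟶ j) {U V : C} (f : V ⟶ U) (a : (D.obj i).obj.obj (op U)) :
    (D.map c).hom.app (op V) ((D.obj i).obj.map f.op a) =
      (D.obj j).obj.map f.op ((D.map c).hom.app (op U) a) :=
  NatTrans.naturality_apply (D.map c).hom f.op a

theorem sheafFor {n : ℕ} {U : C} {V : Fin n → C} {g : ∀ k, V k ⟶ U}
    (hg : Sieve.ofArrows V g ∈ J U) (m : I) :
    Presieve.IsSheafFor (D.obj m).obj (Presieve.ofArrows V g) := by
  rw [Presieve.isSheafFor_iff_generate]
  exact ((isSheaf_iff_isSheaf_of_type J _).1 (D.obj m).property) _ hg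

theorem separated (hJ : ∀ U : C, ToposFin.IsQCSite J U) {U : C} {S : Sieve U} (hS : S ∈ J U)
    (s t : (E D).pt.obj (op U))
    (h : ∀ ⦃V : C⦄ (f : V ⟶ U), S f → (E D).pt.map f.op s = (E D).pt.map f.op t) : s = t := by
  classical
  obtain ⟨i₁, a₁, rfl⟩ := exists_inc D s
  obtain ⟨i₂, a₂, rfl⟩ := exists_inc D t
  let i := IsFiltered.max i₁ i₂
  obtain ⟨n, V, g, hgS, hg⟩ := hJ U S hS
  rw [← inc_map D (IsFiltered.leftToMax i₁ i₂), ← inc_map D (IsFiltered.rightToMax i₁ i₂)] at h ⊢
  generalize (D.map (IsFiltered.leftToMax i₁ i₂)).hom.app (op U) a₁ = a at h ⊢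
  generalize (D.map (IsFiltered.rightToMax i₁ i₂)).hom.app (op U) a₂ = b at h ⊢
  have hk : ∀ k, inc D _ (V k) ((D.obj i).obj.map (g k).op a) =
      inc D _ (V k) ((D.obj i).obj.map (g k).op b) := fun k => by
    rw [← inc_res, ← inc_res]; exact h (g k) (hgS k)
  choose j c hc using fun k => eq_at_stage D (hk k)
  obtain ⟨m, d, hd⟩ := exists_stage i j c
  rw [← inc_map D d U a, ← inc_map D d U b]
  refine congrArg _ ((sheafFor D hg m).isSeparatedFor.ext ?_)
  rintro W _ ⟨k⟩
  obtain ⟨e, he⟩ := hd k
  rw [← nat_res, ← nat_res]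
  exact map_map D (c k) e d he (hc k)

theorem isSheaf [HasPullbacks C] (hJ : ∀ U : C, ToposFin.IsQCSite J U) :
    Presheaf.IsSheaf J (E D).pt := by
  classical
  rw [isSheaf_iff_isSheaf_of_type]
  intro U S hS x hx
  obtain ⟨n, V, g, hgS, hg⟩ := hJ U S hS
  choose i a ha using fun k => exists_inc D (x (g k) (hgS k))
  obtain ⟨i0, hi0⟩ := IsFiltered.sup_objs_exists (Finset.univ.image i)
  let u : ∀ k, i k ⟶ i0 := fun k => (hi0 (Finset.mem_image_of_mem _ (Finset.mem_univ k))).some
  let b : ∀ k, (D.obj i0).obj.obj (op (V k)) := fun k => (D.map (u k)).hom.app (op (V k)) (a k)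
  have hb : ∀ k, inc D i0 (V k) (b k) = x (g k) (hgS k) := fun k =>
    (inc_map D (u k) (V k) (a k)).trans (ha k)
  have hp : ∀ p : Fin n × Fin n,
      inc D i0 _ ((D.obj i0).obj.map (pullback.fst (g p.1) (g p.2)).op (b p.1)) =
        inc D i0 _ ((D.obj i0).obj.map (pullback.snd (g p.1) (g p.2)).op (b p.2)) := fun p => by
    rw [← inc_res, ← inc_res, hb, hb]
    exact hx _ _ (hgS p.1) (hgS p.2) pullback.condition
  choose j c hc using fun p => eq_at_stage D (hp p)
  obtain ⟨m, d, hd⟩ := exists_stage i0 j c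
  have hcomp : Presieve.Arrows.Compatible (D.obj m).obj g
      (fun k => (D.map d).hom.app (op (V k)) (b k)) := by
    intro k l Z p q hpq
    obtain ⟨e, he⟩ := hd (k, l)
    have h1 := map_map D (c (k, l)) e d he (hc (k, l))
    rw [nat_res, nat_res] at h1
    have h2 := congrArg ((D.obj m).obj.map (pullback.lift p q hpq).op) h1
    rw [← Functor.map_comp_apply, ← Functor.map_comp_apply, ← op_comp, ← op_comp,
      pullback.lift_fst, pullback.lift_snd] at h2
    exact h2
  obtain ⟨t, ht, -⟩ := (Presieve.isSheafFor_arrows_iff _ g).1 (sheafFor D hg m) _ hcomp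
  have key : ∀ ⦃W : C⦄ (f : W ⟶ U) (hf : S f), (E D).pt.map f.op (inc D m U t) = x f hf := by
    intro W f hf
    refine separated D hJ (J.pullback_stable f hg) _ _ ?_
    rintro Z h hh
    have hh' : Sieve.ofArrows V g (h ≫ f) := hh
    rw [Sieve.mem_ofArrows_iff] at hh'
    obtain ⟨k, q, hq⟩ := hh'
    calc (E D).pt.map h.op ((E D).pt.map f.op (inc D m U t))
        = (E D).pt.map q.op ((E D).pt.map (g k).op (inc D m U t)) := by
          rw [← Functor.map_comp_apply, ← Functor.map_comp_apply, ← op_comp, ← op_comp, hq]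
      _ = (E D).pt.map q.op (x (g k) (hgS k)) := by
          rw [inc_res, ht k, inc_map, hb]
      _ = (E D).pt.map h.op (x f hf) := hx _ _ (hgS k) hf hq.symm
  exact ⟨inc D m U t, key, fun y hy => separated D hJ hS _ _ fun W f hf =>
    (hy f hf).trans (key f hf).symm⟩

theorem preserves [HasPullbacks C] (hJ : ∀ U : C, ToposFin.IsQCSite J U) :
    PreservesColimit D (sheafToPresheaf J (Type u)) := by
  let c : Cocone D :=
    { pt := ⟨(E D).pt, isSheaf D hJ⟩
      ι :=
        { app := fun i => ObjectProperty.homMk ((E D).ι.app i)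
          naturality := fun i j f => (sheafToPresheaf J (Type u)).map_injective
            (((E D).ι.naturality f).trans (by rfl)) } }
  have hc' : IsColimit ((sheafToPresheaf J (Type u)).mapCocone c) :=
    IsColimit.ofIsoColimit (colimit.isColimit _) (Cocone.ext (Iso.refl _) (fun i => Category.comp_id _))
  exact preservesColimit_of_preserves_colimit_cocone
    (isColimitOfReflects (sheafToPresheaf J (Type u)) hc') hc'

end GrothLib.QCSiteColim25
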